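import Cfsg.Agent.ClassicalMax.ExtOrth.Bridge

/-!
The normaliser of a self-adjoint subfield of prime degree, given as a subalgebra of the matrices, is maximal in the
derived orthogonal group.
-/

set_option autoImplicit false
set_option linter.unusedSectionVars false
set_option linter.style.haveILetI false

namespace Cfsg.Agent.ClassicalMax.OrthEven

open Module QuadraticMap Cfsg Cfsg.Agent.Classical Cfsg.Agent.ClassicalMax

/-- maximality of the normaliser of a self-adjoint field subalgebra of prime degree -/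
theorem isMaximalIn_fieldSubalgebra {F : Type*} [Field F] [Fintype F] {n : ℕ} (q : QuadraticForm F (Fin n → F))
    (hnd : (polarBilin q).Nondegenerate) (h2 : (2 : F) ≠ 0) {r : ℕ} (hr : r.Prime) (hnr : 4 * r ≤ n)
    (hbig : 4 * r = n → 3 ≤ r) (K : Subalgebra F (Matrix (Fin n) (Fin n) F)) (hK : Cfsg.Geo.IsFieldSubalgebra r K)
    (hsa : Cfsg.Geo.IsSelfAdjointFor (QuadraticMap.polar q) K) :
    Cfsg.Geo.IsMaximalIn (Cfsg.Geo.omegaGL ⇑q) (Cfsg.Geo.subalgebraNormalizer K ⊓ Cfsg.Geo.omegaGL ⇑q) := by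
  have hpos := hr.pos
  haveI : Nonempty (Fin n) := ⟨⟨0, by omega⟩⟩
  have hKfield : IsField K :=
    { exists_pair_ne := ⟨0, 1, fun h => zero_ne_one (α := Matrix (Fin n) (Fin n) F) (congrArg Subtype.val h)⟩
      mul_comm := fun x y => Subtype.ext (hK.comm _ x.2 _ y.2)
      mul_inv_cancel := fun {a} ha => by
        obtain ⟨y, hy, h⟩ := hK.inv _ a.2 (fun e => ha (Subtype.ext e))
        exact ⟨⟨y, hy⟩, Subtype.ext h⟩ }
  letI : Field K := hKfield.toField
  exact ExtOrth.isMaximalIn_ext q hnd h2 K.val (by rw [hK.finrank_eq]; exact hr) (by rw [hK.finrank_eq]; exact hnr)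
    (by rw [hK.finrank_eq]; exact hbig) K (fun x => ⟨fun h => ⟨⟨x, h⟩, rfl⟩, fun ⟨k, e⟩ => e ▸ k.2⟩) hsa

/-- degree a quarter of the dimension is allowed down to two for minus type -/
theorem isMaximalIn_fieldSubalgebra_minus {F : Type*} [Field F] [Fintype F] {n : ℕ} (q : QuadraticForm F (Fin n → F))
    (hnd : (polarBilin q).Nondegenerate) (h2 : (2 : F) ≠ 0) (hminus : ¬ Cfsg.Geo.IsPlusTypeOn q ⊤) {r : ℕ}
    (hr : r.Prime) (hnr : 4 * r ≤ n) (K : Subalgebra F (Matrix (Fin n) (Fin n) F))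
    (hK : Cfsg.Geo.IsFieldSubalgebra r K) (hsa : Cfsg.Geo.IsSelfAdjointFor (QuadraticMap.polar q) K) :
    Cfsg.Geo.IsMaximalIn (Cfsg.Geo.omegaGL ⇑q) (Cfsg.Geo.subalgebraNormalizer K ⊓ Cfsg.Geo.omegaGL ⇑q) := by
  have hpos := hr.pos
  haveI : Nonempty (Fin n) := ⟨⟨0, by omega⟩⟩
  have hKfield : IsField K :=
    { exists_pair_ne := ⟨0, 1, fun h => zero_ne_one (α := Matrix (Fin n) (Fin n) F) (congrArg Subtype.val h)⟩
      mul_comm := fun x y => Subtype.ext (hK.comm _ x.2 _ y.2)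
      mul_inv_cancel := fun {a} ha => by
        obtain ⟨y, hy, h⟩ := hK.inv _ a.2 (fun e => ha (Subtype.ext e))
        exact ⟨⟨y, hy⟩, Subtype.ext h⟩ }
  letI : Field K := hKfield.toField
  exact ExtOrth.isMaximalIn_ext' q hnd h2 K.val (by rw [hK.finrank_eq]; exact hr) (by rw [hK.finrank_eq]; exact hnr)
    (fun _ => Or.inr hminus) K (fun x => ⟨fun h => ⟨⟨x, h⟩, rfl⟩, fun ⟨k, e⟩ => e ▸ k.2⟩) hsa

end Cfsg.Agent.ClassicalMax.OrthEven
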