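import Cfsg.Agent.ClassicalMax.RootTwo

/-!
The stabiliser of a pair of complementary totally singular subspaces is maximal in the derived orthogonal group.
-/

set_option autoImplicit false
open Cfsg

namespace Cfsg.Agent.ClassicalMax.OrthEven

open Cfsg.Agent.ClassicalMax Cfsg.Agent.Classical

/-- maximality of the stabiliser of a pair of complementary totally singular subspaces, dimension at least 12 -/
theorem isMaximalIn_lag {F : Type*} [Field F] [Fintype F] {n : ℕ} (hn : 12 ≤ n) (heven : Even n) (Q : (Fin n → F) → F) (hQ : Cfsg.Geo.IsNondegenerateQuadraticForm Q) (hplus : Cfsg.Geo.IsPlusTypeOn Q ⊤) (k : ℕ) (hk : 2 * k = n) (hke : Even k) (D : Fin 2 → Submodule F (Fin n → F)) (hD : Cfsg.Geo.IsMDecomposition k D) (hts : ∀ i, Cfsg.Geo.IsTotallySingularQuad Q (D i)) : Cfsg.Geo.IsMaximalIn (Cfsg.Geo.omegaGL Q) (Cfsg.Geo.decompositionStabilizer D ⊓ Cfsg.Geo.omegaGL Q) := by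
  classical
  let q : QuadraticForm F (Fin n → F) := QuadraticMap.ofPolar Q
    (fun a x => by rw [hQ.smul, smul_eq_mul, pow_two])
    hQ.polar_bilinear.add_left
    (fun a x y => by rw [hQ.polar_bilinear.smul_left, smul_eq_mul])
  have hq : ⇑q = Q := rfl
  have hnd : (QuadraticMap.polarBilin q).Nondegenerate :=
    ⟨fun x hx => by_contra fun h => (hQ.nondegenerate x h).2.elim fun y hy => hy (hx y),
      fun x hx => by_contra fun h => (hQ.nondegenerate x h).1.elim fun y hy => hy (hx y)⟩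
  rw [← hq]
  have hcompl : IsCompl (D 0) (D 1) := ⟨hD.indep.pairwiseDisjoint (by decide), codisjoint_iff.2 (by
    have h := hD.iSup_eq_top
    rw [← h]
    refine le_antisymm (sup_le (le_iSup D 0) (le_iSup D 1)) (iSup_le fun i => ?_)
    fin_cases i <;> simp)⟩
  have hA : RootPlanes.Lag q (D 0) (D 1) :=
    ⟨hcompl, hts 0, hts 1, by rw [hD.finrank_eq]; omega, by rw [hD.finrank_eq, hD.finrank_eq]⟩
  have hmem : ∀ g : (Fin n → F) ≃ₗ[F] (Fin n → F), (glEquiv (Fin n) F).symm g ∈ Cfsg.Geo.decompositionStabilizer D ↔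
      ∃ σ : Equiv.Perm (Fin 2), ∀ i, (D i).map g.toLinearMap = D (σ i) := by
    intro g
    have e : Matrix.toLin' ((((glEquiv (Fin n) F).symm g : GL (Fin n) F)) : Matrix (Fin n) (Fin n) F) = g.toLinearMap :=
      LinearMap.ext fun x => by
        conv_rhs => rw [← (glEquiv (Fin n) F).apply_symm_apply g]
        rw [LinearEquiv.coe_coe, glEquiv_apply, Matrix.toLin'_apply]
    show (∃ σ : Equiv.Perm (Fin 2), ∀ i, _) ↔ _
    rw [e]
  have hstab : ∀ g : Quad.oG q, (glEquiv (Fin n) F).symm g.1 ∈ Cfsg.Geo.decompositionStabilizer D ↔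
      ((D 0).map g.1.toLinearMap = D 0 ∧ (D 1).map g.1.toLinearMap = D 1) ∨
        ((D 0).map g.1.toLinearMap = D 1 ∧ (D 1).map g.1.toLinearMap = D 0) := by
    intro g
    rw [hmem]
    constructor
    · rintro ⟨σ, hσ⟩
      have hb : σ 0 ≠ σ 1 := fun h => absurd (σ.injective h) (by decide)
      rw [hσ 0, hσ 1]
      have h2 : ∀ a : Fin 2, a = 0 ∨ a = 1 := by decide
      rcases h2 (σ 0) with h0 | h0 <;> rcases h2 (σ 1) with h1 | h1
      · exact absurd (h0.trans h1.symm) hb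
      · exact Or.inl ⟨by rw [h0], by rw [h1]⟩
      · exact Or.inr ⟨by rw [h0], by rw [h1]⟩
      · exact absurd (h0.trans h1.symm) hb
    · rintro (⟨h0, h1⟩ | ⟨h0, h1⟩)
      · exact ⟨1, fun i => by fin_cases i <;> assumption⟩
      · exact ⟨Equiv.swap 0 1, fun i => by fin_cases i <;> simpa using ‹_›⟩
  have hex : Nat.card F ≠ 2 ∨ Module.finrank F (Fin n → F) ≠ 4 := Or.inr (by rw [Module.finrank_fin_fun]; omega)
  refine RootPlanes.isMaximalIn_omega q hnd (by rw [Fintype.card_fin]; omega) _ ?_ fun H hH g hg hgS => ?_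
  · obtain ⟨w, hw, hwn, -, -⟩ := hA.perpA 0 0 0 0
    obtain ⟨x, hx, hxn, -, -⟩ := hA.perpA 0 0 w w
    obtain ⟨y, hy, hwy, -, hxy⟩ := hA.sepB hnd hw hw hx hxn
    have hwx : QuadraticMap.polar q w x = 0 := hA.polarA hw hx
    refine ⟨Quad.sO (hA.tsA w hw) hwx, Quad.sO_mem_commutator hnd hex _ _, fun hm => ?_⟩
    have e : (Quad.sO (hA.tsA w hw) hwx).1 y = y + w := by
      rw [Quad.sO_apply, QuadraticMap.polar_comm q y x, hxy, QuadraticMap.polar_comm q y w, hwy]
      simp
    have hy0 : y ≠ 0 := fun h => by rw [h] at hxy; simp [QuadraticMap.polar] at hxy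
    have hw0 := RootPlanes.ne_zero_of_notin hwn
    rcases (hstab _).1 hm with ⟨-, h1⟩ | ⟨-, h1⟩
    · have : y + w ∈ D 1 := h1.le ⟨y, hy, e⟩
      exact hw0 (RootPlanes.eq_zero_of_compl hcompl hw (((D 1).add_mem_iff_right hy).1 this))
    · have : y + w ∈ D 0 := h1.le ⟨y, hy, e⟩
      exact hy0 (RootPlanes.eq_zero_of_compl hcompl (((D 0).add_mem_iff_left hw).1 this) hy)
  · refine hA.over hnd (by rw [hD.finrank_eq]; exact hke) ?_ ?_ hg (fun h => hgS ((hstab g).2 h))
    · intro a ha b hb hab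
      refine ⟨hA.tsA a ha, hA.tsB b hb, hab, fun l hu h => hH _ (Quad.sO_mem_commutator hnd hex _ _) ((hstab _).2 (Or.inl ?_))⟩
      constructor <;> refine RootPlanes.map_eq_of_le rfl fun y hy => ?_ <;> rw [Quad.sO_apply]
      · rw [QuadraticMap.map_smul, hA.tsB b hb, hA.polarA hy ha]
        simpa using (D 0).add_mem hy ((D 0).smul_mem _ ha)
      · rw [QuadraticMap.map_smul, hA.tsB b hb, QuadraticMap.polar_smul_right, hA.polarB hy hb]
        simpa [sub_eq_add_neg] using (D 1).sub_mem hy ((D 1).smul_mem (QuadraticMap.polar q y a) ((D 1).smul_mem l hb))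
    · intro s hs hsA hsB
      exact hH s hs ((hstab s).2 (Or.inr ⟨RootPlanes.map_eq_of_le hA.eqdim hsA,
        RootPlanes.map_eq_of_le hA.eqdim.symm hsB⟩))

end Cfsg.Agent.ClassicalMax.OrthEven
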