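import Cfsg.Agent.ClassicalMax.RootPlanes

/-!
The stabiliser of a nonsingular point in characteristic two is maximal in the derived orthogonal group.
-/

set_option autoImplicit false
open Cfsg

namespace Cfsg.Agent.ClassicalMax.OrthEven

open Cfsg.Agent.ClassicalMax Cfsg.Agent.Classical

/-- maximality of the stabiliser of a nonsingular point in characteristic two, dimension at least 8 -/
theorem isMaximalIn_point {F : Type*} [Field F] [Fintype F] {n : ℕ} (hn : 8 ≤ n) (heven : Even n) (Q : (Fin n → F) → F) (hQ : Cfsg.Geo.IsNondegenerateQuadraticForm Q) (hchar : ¬ Odd (Fintype.card F)) (v : (Fin n → F)) (hv : Q v ≠ 0) : Cfsg.Geo.IsMaximalIn (Cfsg.Geo.omegaGL Q) (Cfsg.Geo.subspaceStabilizer (Submodule.span F {v}) ⊓ Cfsg.Geo.omegaGL Q) := by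
  classical
  let q : QuadraticForm F (Fin n → F) := QuadraticMap.ofPolar Q
    (fun a x => by rw [hQ.smul, smul_eq_mul, pow_two])
    hQ.polar_bilinear.add_left
    (fun a x y => by rw [hQ.polar_bilinear.smul_left, smul_eq_mul])
  have hq : ⇑q = Q := rfl
  have hnd : (QuadraticMap.polarBilin q).Nondegenerate :=
    ⟨fun x hx => by_contra fun h => (hQ.nondegenerate x h).2.elim fun y hy => hy (hx y),
      fun x hx => by_contra fun h => (hQ.nondegenerate x h).1.elim fun y hy => hy (hx y)⟩
  rw [← hq] at hv ⊢
  have hv0 : v ≠ 0 := fun h => hv (by rw [h, map_zero])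
  have hdim : Module.finrank F (Fin n → F) = n := Module.finrank_fin_fun F
  have hex : Nat.card F ≠ 2 ∨ Module.finrank F (Fin n → F) ≠ 4 := Or.inr (by omega)
  set W := Submodule.span F ({v} : Set (Fin n → F)) with hW
  have hmem : ∀ g : Quad.oG q, (glEquiv (Fin n) F).symm g.1 ∈ Cfsg.Geo.subspaceStabilizer W ↔ g.1 v ∈ W := by
    intro g
    have hx : ∀ x, Matrix.mulVec (Cfsg.glToMat (Fin n) F ((glEquiv (Fin n) F).symm g.1)) x = g.1 x := fun x => by
      conv_rhs => rw [← (glEquiv (Fin n) F).apply_symm_apply g.1]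
      rw [glEquiv_apply]
      rfl
    refine ⟨fun h => hx v ▸ (h v).1 (Submodule.mem_span_singleton_self v), fun h x => ?_⟩
    rw [hx]
    obtain ⟨c, hc⟩ := Submodule.mem_span_singleton.1 h
    have hc0 : c ≠ 0 := fun h0 => hv0 (g.1.map_eq_zero_iff.1 (by rw [← hc, h0, zero_smul]))
    constructor
    · intro hxW
      obtain ⟨a, rfl⟩ := Submodule.mem_span_singleton.1 hxW
      exact W.smul_mem c (W.smul_mem a (Submodule.mem_span_singleton_self v)) |> fun h' => by
        rw [map_smul, ← hc, smul_smul, mul_comm, ← smul_smul]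
        exact h'
    · intro hxW
      obtain ⟨a, ha⟩ := Submodule.mem_span_singleton.1 hxW
      refine Submodule.mem_span_singleton.2 ⟨a / c, g.1.injective ?_⟩
      rw [map_smul, ← hc, smul_smul, div_mul_cancel₀ _ hc0, ha]
  have hfix : ∀ {p w : Fin n → F} (hp : q p = 0) (h : QuadraticMap.polar q p w = 0),
      QuadraticMap.polar q v p = 0 → QuadraticMap.polar q v w = 0 → (Quad.sO hp h).1 v = v := fun hp h h1 h2 => by
    rw [Quad.sO_apply, h1, h2]
    simp
  refine RootPlanes.isMaximalIn_omega q hnd (by rw [Fintype.card_fin]; omega) _ ?_ fun H hH g hg hgS => ?_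
  · have hsp : Module.finrank F W = 1 := finrank_span_singleton hv0
    obtain ⟨c, hc, -, hvc⟩ := RootPlanes.exists_sing_sep hnd (⊥ : Submodule F (Fin n → F)) (by simp; omega) (x := v) (by simpa using hv0)
    have hcW : c ∉ W := fun hm => by
      obtain ⟨a, rfl⟩ := Submodule.mem_span_singleton.1 hm
      rw [Quad.map_smul', mul_eq_zero] at hc
      have ha : a = 0 := mul_self_eq_zero.1 (hc.resolve_right hv)
      rw [ha, zero_smul] at hvc
      simp [QuadraticMap.polar] at hvc
    obtain ⟨w, hw, hwc, hwp⟩ := RootPlanes.exists_sing_perp (Q := q) (Submodule.span F {v, c}) (by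
      have := RootPlanes.finrank_comap_pair_le (A := (⊤ : Submodule F (Fin n → F))) ⟨v, trivial⟩ ⟨c, trivial⟩
      have h2 : Module.finrank F (Submodule.span F ({v, c} : Set (Fin n → F))) ≤ 2 := by
        have h3 := finrank_span_le_card (R := F) ({v, c} : Set (Fin n → F))
        rw [Set.toFinset_insert, Set.toFinset_singleton] at h3
        exact h3.trans Finset.card_le_two
      omega)
    have hcw : QuadraticMap.polar q c w = 0 := hwp c (Submodule.subset_span (by simp))
    refine ⟨Quad.sO hc hcw, Quad.sO_mem_commutator hnd hex _ _, fun hm => hwc ?_⟩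
    obtain ⟨a, ha⟩ := Submodule.mem_span_singleton.1 ((hmem _).1 hm)
    rw [Quad.sO_apply, hvc, hwp v (Submodule.subset_span (by simp)), hw] at ha
    exact Submodule.mem_span_pair.2 ⟨1 - a, 0, by linear_combination (norm := module) -ha⟩
  · set v' := g.1 v with hv'
    have hne : v' ∉ W := fun h => hgS ((hmem g).2 h)
    have hU : Module.finrank F (Submodule.span F ({v, v'} : Set (Fin n → F))) ≤ 2 := by
      have h3 := finrank_span_le_card (R := F) ({v, v'} : Set (Fin n → F))
      rw [Set.toFinset_insert, Set.toFinset_singleton] at h3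
      exact h3.trans Finset.card_le_two
    have hfull : ∀ p, q p = 0 → p ∉ Submodule.span F ({v, v'} : Set (Fin n → F)) → QuadraticMap.polar q v p = 0 →
        QuadraticMap.polar q v' p = 0 → RootPlanes.Full H p := by
      intro p hp hpn h1 h2
      have hT : ∀ w, QuadraticMap.polar q p w = 0 → QuadraticMap.polar q v w = 0 → w ∈ RootPlanes.tS H hp :=
        fun w hw hvw => ⟨hw, fun a h => hH _ (Quad.sO_mem_commutator hnd hex _ _) ((hmem _).2 (by
          rw [hfix hp h h1 (Quad.polar_perp_smul hvw a)]
          exact Submodule.mem_span_singleton_self v))⟩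
      have hT' : ∀ w, QuadraticMap.polar q p w = 0 → QuadraticMap.polar q v' w = 0 → w ∈ RootPlanes.tS H hp :=
        fun w hw hvw => ⟨hw, fun a h => by
          have e1 : ∀ y, QuadraticMap.polar q v' y = 0 → QuadraticMap.polar q v ((g⁻¹).1 y) = 0 := fun y hy => by
            rw [← Quad.polar_oG g, Quad.oG_apply_inv, ← hv', hy]
          have h0 : QuadraticMap.polar q ((g⁻¹).1 p) ((g⁻¹).1 (a • w)) = 0 := by rw [Quad.polar_oG, h]
          have hp0 : q ((g⁻¹).1 p) = 0 := by rw [(g⁻¹).2, hp]
          have hm : Quad.sO hp0 h0 ∈ H := hH _ (Quad.sO_mem_commutator hnd hex _ _) ((hmem _).2 (by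
            rw [hfix hp0 h0 (e1 p h2) (e1 _ (Quad.polar_perp_smul hvw a))]
            exact Submodule.mem_span_singleton_self v))
          have h3 := mul_mem (mul_mem hg hm) (inv_mem hg)
          rw [Quad.conj_sO] at h3
          have e2 : g.1 ((g⁻¹).1 p) = p := Quad.oG_apply_inv g p
          have e3 : g.1 ((g⁻¹).1 (a • w)) = a • w := Quad.oG_apply_inv g _
          convert h3 using 2 <;> simp [e2, e3]⟩
      refine RootPlanes.full_of_tS hp fun w hw => ?_
      obtain ⟨z, hz, hz1⟩ := Quad.exists_perp hnd (S := Submodule.span F ({p, v'} : Set (Fin n → F))) (x := v) (fun hm => by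
        obtain ⟨s, t, e⟩ := Submodule.mem_span_pair.1 hm
        rcases eq_or_ne s 0 with rfl | hs
        · rw [zero_smul, zero_add] at e
          have ht : t ≠ 0 := fun h0 => hv0 (by rw [← e, h0, zero_smul])
          exact hne (Submodule.mem_span_singleton.2 ⟨t⁻¹, by rw [← e, inv_smul_smul₀ ht]⟩)
        · refine hpn (Submodule.mem_span_pair.2 ⟨s⁻¹, -(t / s), ?_⟩)
          rw [← e]
          match_scalars <;> field_simp <;> ring)
      have h5 := Submodule.add_mem _ (hT (w + (-QuadraticMap.polar q v w) • z)
          (by rw [QuadraticMap.polar_add_right, hw, QuadraticMap.polar_smul_right, hz p (Submodule.subset_span (by simp)), smul_zero, add_zero])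
          (by rw [QuadraticMap.polar_add_right, QuadraticMap.polar_smul_right, hz1, smul_eq_mul, mul_one, add_neg_cancel]))
        (Submodule.smul_mem _ (QuadraticMap.polar q v w) (hT' z (hz p (Submodule.subset_span (by simp))) (hz v' (Submodule.subset_span (by simp)))))
      rwa [show w + (-QuadraticMap.polar q v w) • z + QuadraticMap.polar q v w • z = w by module] at h5
    obtain ⟨p, hp, hpn, hpp⟩ := RootPlanes.exists_sing_perp (Q := q) (Submodule.span F ({v, v'} : Set (Fin n → F))) (by omega)
    obtain ⟨c, hc, hcp, hpc⟩ := RootPlanes.exists_sing_sep hnd (Submodule.span F ({v, v'} : Set (Fin n → F))) (by omega) hpn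
    have hcn : c ∉ Submodule.span F ({v, v'} : Set (Fin n → F)) := fun hm => by
      have := hpp c hm
      rw [QuadraticMap.polar_comm, hpc] at this
      exact one_ne_zero this
    exact RootPlanes.eo_le hnd (by omega)
      (hfull p hp hpn (hpp v (Submodule.subset_span (by simp))) (hpp v' (Submodule.subset_span (by simp))))
      (hfull c hc hcn (hcp v (Submodule.subset_span (by simp))) (hcp v' (Submodule.subset_span (by simp))))
      (by rw [hpc]; exact one_ne_zero)

end Cfsg.Agent.ClassicalMax.OrthEven
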