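import Cfsg.Agent.ClassicalMax.Tensor.SympMain

/-!
The stabiliser of a tensor product of two symplectic forms is maximal in the derived orthogonal group.
-/

set_option autoImplicit false
open Cfsg

namespace Cfsg.Agent.ClassicalMax.OrthEven

open Module Matrix Cfsg.Agent.Classical Cfsg.Agent.Classical.Quad Cfsg.Agent.ClassicalMax Cfsg.Agent.ClassicalMax.RootPlanes Cfsg.Agent.ClassicalMax.Tensor
open scoped Kronecker

variable {F : Type*} [Field F] {n n₁ n₂ : ℕ}

/-- coordinates of a matrix in the tensor decomposition -/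
noncomputable def coords (e : Fin n ≃ Fin n₁ × Fin n₂) (P : GL (Fin n) F) :
    Matrix (Fin n₁) (Fin n₂) F ≃ₗ[F] (Fin n → F) :=
  ({ toFun := fun X k => X (e k).1 (e k).2
     map_add' := fun _ _ => rfl
     map_smul' := fun _ _ => rfl
     invFun := fun x => Matrix.of fun i j => x (e.symm (i, j))
     left_inv := fun X => by
       refine Matrix.ext fun i j => ?_
       show X (e (e.symm (i, j))).1 (e (e.symm (i, j))).2 = X i j
       rw [Equiv.apply_symm_apply]
     right_inv := fun x => funext fun k => by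
       show x (e.symm ((e k).1, (e k).2)) = x k
       rw [Prod.mk.eta, Equiv.symm_apply_apply] } : Matrix (Fin n₁) (Fin n₂) F ≃ₗ[F] (Fin n → F)).trans
    (glEquiv (Fin n) F P)

theorem kron_coords (e : Fin n ≃ Fin n₁ × Fin n₂) (A : Matrix (Fin n₁) (Fin n₁) F) (B : Matrix (Fin n₂) (Fin n₂) F)
    (X : Matrix (Fin n₁) (Fin n₂) F) :
    Matrix.reindex e.symm e.symm (A ⊗ₖ B) *ᵥ (fun k => X (e k).1 (e k).2) =
      fun k => (A * X * Bᵀ) (e k).1 (e k).2 := by
  have h := kronecker_mulVec_vec B Xᵀ A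
  funext k
  have h2 := congrFun h (e k)
  rw [show B * Xᵀ * Aᵀ = (A * X * Bᵀ)ᵀ by rw [transpose_mul, transpose_mul, transpose_transpose, Matrix.mul_assoc]] at h2
  refine Eq.trans ?_ h2
  simp only [Matrix.mulVec, dotProduct, Matrix.reindex_apply, Matrix.submatrix_apply, Equiv.symm_symm]
  exact Fintype.sum_equiv e _ _ fun c => rfl

theorem mem_iff (e : Fin n ≃ Fin n₁ × Fin n₂) (P g : GL (Fin n) F) :
    g ∈ Cfsg.Geo.tensorProductSubgroup n₁ n₂ e P ↔
      InN ((coords e P).trans ((glEquiv (Fin n) F g).trans (coords e P).symm)) := by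
  constructor
  · rintro ⟨_, ⟨_, ⟨a, b, hab⟩, rfl⟩, rfl⟩
    let Bt : GL (Fin n₂) F := ⟨(b : Matrix (Fin n₂) (Fin n₂) F)ᵀ, ((b⁻¹ : GL (Fin n₂) F) : Matrix (Fin n₂) (Fin n₂) F)ᵀ,
      by rw [← transpose_mul, ← Units.val_mul, inv_mul_cancel, Units.val_one, transpose_one],
      by rw [← transpose_mul, ← Units.val_mul, mul_inv_cancel, Units.val_one, transpose_one]⟩
    refine ⟨a, Bt, fun X => (LinearEquiv.symm_apply_eq (coords e P)).2 ?_⟩
    show glEquiv (Fin n) F (P * _ * P⁻¹) (glEquiv (Fin n) F P _) = glEquiv (Fin n) F P _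
    rw [← LinearEquiv.mul_apply, ← map_mul, inv_mul_cancel_right, map_mul, LinearEquiv.mul_apply]
    congr 1
    rw [glEquiv_apply]
    show Matrix.reindex e.symm e.symm _ *ᵥ _ = _
    rw [hab]
    exact kron_coords e _ _ X
  · rintro ⟨A, B, h⟩
    let Bt : GL (Fin n₂) F := ⟨(B : Matrix (Fin n₂) (Fin n₂) F)ᵀ, ((B⁻¹ : GL (Fin n₂) F) : Matrix (Fin n₂) (Fin n₂) F)ᵀ,
      by rw [← transpose_mul, ← Units.val_mul, inv_mul_cancel, Units.val_one, transpose_one],
      by rw [← transpose_mul, ← Units.val_mul, mul_inv_cancel, Units.val_one, transpose_one]⟩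
    let k : GL (Fin n₁ × Fin n₂) F :=
      ⟨(A : Matrix (Fin n₁) (Fin n₁) F) ⊗ₖ (Bt : Matrix (Fin n₂) (Fin n₂) F),
       ((A⁻¹ : GL (Fin n₁) F) : Matrix (Fin n₁) (Fin n₁) F) ⊗ₖ ((Bt⁻¹ : GL (Fin n₂) F) : Matrix (Fin n₂) (Fin n₂) F),
       by rw [← mul_kronecker_mul, ← Units.val_mul, ← Units.val_mul, mul_inv_cancel, mul_inv_cancel, Units.val_one,
            Units.val_one, one_kronecker_one],
       by rw [← mul_kronecker_mul, ← Units.val_mul, ← Units.val_mul, inv_mul_cancel, inv_mul_cancel, Units.val_one,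
            Units.val_one, one_kronecker_one]⟩
    refine ⟨Cfsg.Geo.glReindex e.symm k, ⟨k, ⟨A, Bt, rfl⟩, rfl⟩, ?_⟩
    apply (glEquiv (Fin n) F).injective
    refine LinearEquiv.ext fun x => ?_
    obtain ⟨X, rfl⟩ := (coords e P).surjective x
    have h1 := congrArg (coords e P) (h X)
    simp only [LinearEquiv.trans_apply, LinearEquiv.apply_symm_apply] at h1
    refine Eq.trans ?_ h1.symm
    show glEquiv (Fin n) F (P * _ * P⁻¹) (glEquiv (Fin n) F P _) = glEquiv (Fin n) F P _
    rw [← LinearEquiv.mul_apply, ← map_mul, inv_mul_cancel_right, map_mul, LinearEquiv.mul_apply]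
    congr 1
    rw [glEquiv_apply]
    show Matrix.reindex e.symm e.symm _ *ᵥ _ = _
    refine (kron_coords e _ _ X).trans ?_
    show (fun k => ((A : Matrix (Fin n₁) (Fin n₁) F) * X * ((B : Matrix (Fin n₂) (Fin n₂) F)ᵀ)ᵀ) (e k).1 (e k).2) = _
    rw [transpose_transpose]
    rfl

theorem gram_apply {k : ℕ} {f : (Fin k → F) → (Fin k → F) → F} (hf : Cfsg.Geo.IsBilinearForm f) (a b : Fin k → F) :
    f a b = gf (Cfsg.Geo.gramMatrix f) a b := by
  let B : (Fin k → F) →ₗ[F] (Fin k → F) →ₗ[F] F := LinearMap.mk₂ F f hf.add_left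
    (fun c x v => by rw [hf.smul_left, smul_eq_mul]) hf.add_right (fun c v x => by rw [hf.smul_right, smul_eq_mul])
  show B a b = _
  conv_lhs => rw [← Matrix.toLinearMap₂'_toMatrix' (R := F) B]
  rw [Matrix.toLinearMap₂'_apply']
  rfl

theorem isSymp_gram {k : ℕ} {f : (Fin k → F) → (Fin k → F) → F} (hf : Cfsg.Geo.IsSymplecticForm f) {c : F}
    (hc : c ≠ 0) : IsSymp (c • Cfsg.Geo.gramMatrix f) where
  alt a := by
    rw [gf, smul_mulVec, dotProduct_smul]
    show c * gf (Cfsg.Geo.gramMatrix f) a a = 0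
    rw [← gram_apply hf.bilinear, hf.alternating, mul_zero]
  nd b hb := by
    by_contra hne
    obtain ⟨w, hw⟩ := (hf.nondegenerate b hne).1
    refine hw ?_
    rw [smul_mulVec, smul_eq_zero, or_iff_right hc] at hb
    rw [gram_apply hf.bilinear, gf, hb, dotProduct_zero]

theorem formOfGram_pure (G₁ : Matrix (Fin n₁) (Fin n₁) F) (G₂ : Matrix (Fin n₂) (Fin n₂) F)
    (X : Matrix (Fin n₁) (Fin n₂) F) (a : Fin n₁ → F) (b : Fin n₂ → F) :
    Cfsg.Geo.formOfGram id (G₁ ⊗ₖ G₂) (fun p => X p.1 p.2) (fun p => a p.1 * b p.2) =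
      (G₁ *ᵥ a) ⬝ᵥ (X *ᵥ (G₂ *ᵥ b)) := by
  simp only [Cfsg.Geo.formOfGram, Fintype.sum_prod_type, Matrix.kroneckerMap_apply, dotProduct, Matrix.mulVec, id_eq]
  refine Finset.sum_congr rfl fun i _ => ?_
  rw [Finset.sum_mul, Finset.sum_comm]
  refine Finset.sum_congr rfl fun k _ => ?_
  rw [Finset.mul_sum]
  refine Finset.sum_congr rfl fun j _ => ?_
  rw [Finset.mul_sum, Finset.mul_sum]
  refine Finset.sum_congr rfl fun l _ => ?_
  ring

/-- maximality of the stabiliser of a tensor product of two symplectic forms, dimension at least 12 -/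
theorem isMaximalIn_spTensor {F : Type*} [Field F] [Fintype F] {n : ℕ} (hn : 12 ≤ n) (heven : Even n) (Q : (Fin n → F) → F) (hQ : Cfsg.Geo.IsNondegenerateQuadraticForm Q) (hplus : Cfsg.Geo.IsPlusTypeOn Q ⊤) (n₁ n₂ : ℕ) (h12 : n₁ < n₂) (hex : ¬ (Fintype.card F = 2 ∧ n₁ = 2)) (e : (Fin n) ≃ Fin n₁ × Fin n₂) (P : Matrix.GeneralLinearGroup (Fin n) F) (f₁ : (Fin n₁ → F) → (Fin n₁ → F) → F) (f₂ : (Fin n₂ → F) → (Fin n₂ → F) → F) (hf₁ : Cfsg.Geo.IsSymplecticForm f₁) (hf₂ : Cfsg.Geo.IsSymplecticForm f₂) (hT : Cfsg.Geo.IsTensorFormStructure id (QuadraticMap.polar Q) f₁ f₂ e P) (hpure : (∀ (x₁ : Fin n₁ → F) (x₂ : Fin n₂ → F), Q (Matrix.mulVec (P : Matrix (Fin n) (Fin n) F) ((fun a : Fin n₁ × Fin n₂ => x₁ a.1 * x₂ a.2) ∘ e)) = 0)) : Cfsg.Geo.IsMaximalIn (Cfsg.Geo.omegaGL Q) (Cfsg.Geo.tensorProductSubgroup n₁ n₂ e P ⊓ Cfsg.Geo.omegaGL Q) := by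
  classical
  let q : QuadraticForm F (Fin n → F) := QuadraticMap.ofPolar Q
    (fun a x => by rw [hQ.smul, smul_eq_mul, pow_two])
    hQ.polar_bilinear.add_left
    (fun a x y => by rw [hQ.polar_bilinear.smul_left, smul_eq_mul])
  have hq : ⇑q = Q := rfl
  have hnd : (QuadraticMap.polarBilin q).Nondegenerate :=
    ⟨fun x hx => by_contra fun h => (hQ.nondegenerate x h).2.elim fun y hy => hy (hx y),
      fun x hx => by_contra fun h => (hQ.nondegenerate x h).1.elim fun y hy => hy (hx y)⟩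
  obtain ⟨c, hc, hT⟩ := hT
  rw [← hq] at hT hpure ⊢
  set Ψ := coords e P with hΨ
  let Qm : QuadraticForm F (Matrix (Fin n₁) (Fin n₂) F) := q.comp Ψ.toLinearMap
  have hmn : n = n₁ * n₂ := by
    have := Fintype.card_congr e
    rwa [Fintype.card_prod, Fintype.card_fin, Fintype.card_fin, Fintype.card_fin] at this
  obtain ⟨he1, he2⟩ : Even n₁ ∧ Even n₂ := by
    have key : ∀ {k : ℕ} {f : (Fin k → F) → (Fin k → F) → F}, Cfsg.Geo.IsSymplecticForm f → Even k :=
      fun {k} {f} hf => by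
        obtain ⟨m, em, fm, hee, hff, hef, hexp⟩ := exists_basis (isSymp_gram hf (one_ne_zero (α := F)))
        set G := ((1 : F) • Cfsg.Geo.gramMatrix f) with hG
        have hli : LinearIndependent F (Sum.elim em fm) := by
          rw [Fintype.linearIndependent_iff]
          intro g hg s
          rw [Fintype.sum_sum_type] at hg
          simp only [Sum.elim_inl, Sum.elim_inr] at hg
          have hsym := isSymp_gram hf (one_ne_zero (α := F))
          rcases s with i | i
          · have := congrArg (gB G · (fm i)) hg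
            simp only [map_add, map_sum, map_smul, LinearMap.add_apply, LinearMap.coe_sum, Finset.sum_apply,
              LinearMap.smul_apply, smul_eq_mul, map_zero, LinearMap.zero_apply] at this
            simp only [show ∀ a b, gB G a b = gf G a b from fun a b => rfl, hff, hef, mul_zero,
              Finset.sum_const_zero, add_zero, mul_ite, mul_one, Finset.sum_ite_eq', Finset.mem_univ, if_true] at this
            exact this
          · have hfe : ∀ j, gf G (fm j) (em i) = if i = j then -1 else 0 := fun j => by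
              rw [hsym.swap (em i) (fm j), hef]
              split <;> simp
            have := congrArg (gB G · (em i)) hg
            simp only [map_add, map_sum, map_smul, LinearMap.add_apply, LinearMap.coe_sum, Finset.sum_apply,
              LinearMap.smul_apply, smul_eq_mul, map_zero, LinearMap.zero_apply] at this
            simp only [show ∀ a b, gB G a b = gf G a b from fun a b => rfl, hee, hfe, mul_zero,
              Finset.sum_const_zero, zero_add, mul_neg, mul_ite, mul_one, Finset.sum_neg_distrib, Finset.sum_ite_eq,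
              Finset.mem_univ, if_true, neg_eq_zero] at this
            exact this
        have hsp : ⊤ ≤ Submodule.span F (Set.range (Sum.elim em fm)) := fun a _ => by
          rw [hexp a]
          exact Submodule.sum_mem _ fun i _ => Submodule.add_mem _
            (Submodule.smul_mem _ _ (Submodule.subset_span ⟨Sum.inl i, rfl⟩))
            (Submodule.smul_mem _ _ (Submodule.subset_span ⟨Sum.inr i, rfl⟩))
        have h := Module.finrank_eq_card_basis (Module.Basis.mk hli hsp)
        rw [Module.finrank_fintype_fun_eq_card, Fintype.card_fin, Fintype.card_sum, Fintype.card_fin] at h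
        exact ⟨m, h⟩
    exact ⟨key hf₁, key hf₂⟩
  obtain ⟨k₁, rfl⟩ := he1
  obtain ⟨k₂, rfl⟩ := he2
  have hn1 : 1 ≤ k₁ := by
    rcases Nat.eq_zero_or_pos k₁ with rfl | h
    · simp at hmn; omega
    · exact h
  have hpm : ∀ X Y, QuadraticMap.polar Qm X Y = QuadraticMap.polar q (Ψ X) (Ψ Y) := fun X Y => by
    show q (Ψ (X + Y)) - q (Ψ X) - q (Ψ Y) = _
    rw [map_add]
    rfl
  have hS : SympTensor Qm (c • Cfsg.Geo.gramMatrix f₁) (Cfsg.Geo.gramMatrix f₂) :=
    { nd := nondeg_of fun X hX => Ψ.injective (by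
        rw [map_zero]
        refine hnd.1 _ fun y => ?_
        obtain ⟨Y, rfl⟩ := Ψ.surjective y
        exact (hpm X Y).symm.trans (hX Y))
      h₁ := isSymp_gram hf₁ hc
      h₂ := by simpa using isSymp_gram hf₂ (one_ne_zero (α := F))
      pol := fun X a b => by
        rw [hpm]
        have := hT (fun p => X p.1 p.2) (fun p => a p.1 * b p.2)
        rw [smul_mulVec, smul_dotProduct, smul_eq_mul, ← formOfGram_pure, ← this]
        rfl
      pure := fun a b => hpure a b
      two := by rw [Fintype.card_fin]; omega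
      lt := by rw [Fintype.card_fin, Fintype.card_fin]; omega
      six := by
        rw [Fintype.card_fin]
        by_contra hlt
        have h2 : k₂ ≤ 2 := by omega
        have h1 : k₁ ≤ 1 := by omega
        have := Nat.mul_le_mul (show k₁ + k₁ ≤ 2 by omega) (show k₂ + k₂ ≤ 4 by omega)
        omega }
  have hq' : Fintype.card (Fin (k₁ + k₁)) = 2 → 3 ≤ Nat.card F := fun h => by
    rw [Nat.card_eq_fintype_card]
    rw [Fintype.card_fin] at h
    have := Fintype.one_lt_card (α := F)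
    omega
  let conj : oG q →* oG Qm :=
    { toFun := fun g => ⟨Ψ.trans (g.1.trans Ψ.symm), fun X => by
        show q (Ψ (Ψ.symm (g.1 (Ψ X)))) = q (Ψ X)
        rw [Ψ.apply_symm_apply, g.2]⟩
      map_one' := Subtype.ext (LinearEquiv.ext fun x => Ψ.symm_apply_apply x)
      map_mul' := fun g h => Subtype.ext (LinearEquiv.ext fun x => by
        show Ψ.symm (g.1 (h.1 (Ψ x))) = Ψ.symm (g.1 (Ψ (Ψ.symm (h.1 (Ψ x)))))
        rw [Ψ.apply_symm_apply]) }
  let back : oG Qm →* oG q :=
    { toFun := fun g => ⟨Ψ.symm.trans (g.1.trans Ψ), fun x => by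
        have h := g.2 (Ψ.symm x)
        show q (Ψ (g.1 (Ψ.symm x))) = q x
        conv_rhs => rw [← Ψ.apply_symm_apply x]
        exact h⟩
      map_one' := Subtype.ext (LinearEquiv.ext fun x => Ψ.apply_symm_apply x)
      map_mul' := fun g h => Subtype.ext (LinearEquiv.ext fun x => by
        show Ψ (g.1 (h.1 (Ψ.symm x))) = Ψ (g.1 (Ψ.symm (Ψ (h.1 (Ψ.symm x)))))
        rw [Ψ.symm_apply_apply]) }
  have hcb : ∀ g, conj (back g) = g := fun g => Subtype.ext (LinearEquiv.ext fun x => by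
    show Ψ.symm (Ψ (g.1 (Ψ.symm (Ψ x)))) = g.1 x
    rw [Ψ.symm_apply_apply, Ψ.symm_apply_apply])
  have hbc : ∀ g, back (conj g) = g := fun g => Subtype.ext (LinearEquiv.ext fun x => by
    show Ψ (Ψ.symm (g.1 (Ψ (Ψ.symm x)))) = g.1 x
    rw [Ψ.apply_symm_apply, Ψ.apply_symm_apply])
  have hmem : ∀ g : oG q, (glEquiv (Fin n) F).symm g.1 ∈ Cfsg.Geo.tensorProductSubgroup (k₁ + k₁) (k₂ + k₂) e P ↔
      InN (conj g).1 := fun g => by
    rw [mem_iff, MulEquiv.apply_symm_apply]
    exact Iff.rfl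
  have hcomm : ∀ g ∈ commutator (oG Qm), back g ∈ commutator (oG q) := fun g hg => by
    have h := Subgroup.mem_map_of_mem back hg
    rw [commutator_def, Subgroup.map_commutator] at h
    rw [commutator_def]
    exact Subgroup.commutator_mono le_top le_top h
  refine isMaximalIn_omega q hnd (by rw [Fintype.card_fin]; omega) _ ?_ fun H hH g hgH hgS => ?_
  · obtain ⟨g, hg, hgN⟩ := exists_comm_not_inN hS
    exact ⟨back g, hcomm g hg, fun h => hgN (by rw [← hcb g]; exact (hmem _).1 h)⟩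
  let H' : Subgroup (oG Qm) := H.comap back
  have hle : TLe H' := fun T hT hN => hH _ (hcomm T hT) ((hmem _).2 (by rw [hcb]; exact hN))
  have hgH' : conj g ∈ H' := by show back (conj g) ∈ H; rw [hbc]; exact hgH
  have heo := eo_le_of_not_inN hS hq' hle hgH' (fun hN => hgS ((hmem g).2 hN))
  refine (Subgroup.closure_le _).2 ?_
  rintro _ ⟨p, w, hp, hpw, rfl⟩
  have hp' : Qm (Ψ.symm p) = 0 := by
    show q (Ψ (Ψ.symm p)) = 0
    rw [Ψ.apply_symm_apply, hp]
  have hpw' : QuadraticMap.polar Qm (Ψ.symm p) (Ψ.symm w) = 0 := by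
    rw [QuadraticMap.polar]
    show q (Ψ (Ψ.symm p + Ψ.symm w)) - q (Ψ (Ψ.symm p)) - q (Ψ (Ψ.symm w)) = 0
    rw [map_add, Ψ.apply_symm_apply, Ψ.apply_symm_apply]
    exact hpw
  have hback : back (sO hp' hpw') ∈ H := heo (Subgroup.subset_closure ⟨_, _, hp', hpw', rfl⟩)
  suffices e' : back (sO hp' hpw') = sO hp hpw by
    rw [e'] at hback
    exact hback
  refine ext_oG fun x => ?_
  show Ψ ((sO hp' hpw').1 (Ψ.symm x)) = _
  rw [sO_apply, sO_apply, map_add, map_add, map_add, map_smul, map_smul, map_smul]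
  have e1 : ∀ y z, QuadraticMap.polar Qm (Ψ.symm y) (Ψ.symm z) = QuadraticMap.polar q y z := fun y z => by
    show q (Ψ (Ψ.symm y + Ψ.symm z)) - q (Ψ (Ψ.symm y)) - q (Ψ (Ψ.symm z)) = _
    rw [map_add, Ψ.apply_symm_apply, Ψ.apply_symm_apply]
    rfl
  rw [e1, e1, show Qm (Ψ.symm w) = q w from congrArg q (Ψ.apply_symm_apply w), Ψ.apply_symm_apply, Ψ.apply_symm_apply,
    Ψ.apply_symm_apply]

end Cfsg.Agent.ClassicalMax.OrthEven
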