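import Cfsg.Agent.ClassicalMax.RootUnit

/-!
The normaliser of a quadratic field over which the form is hermitian is maximal in the derived orthogonal group.
-/

set_option autoImplicit false
open Cfsg

namespace Cfsg.Agent.ClassicalMax.OrthEven

open Cfsg.Agent.ClassicalMax Cfsg.Agent.Classical

/-- maximality of the normaliser of a quadratic field over which the form is hermitian, dimension at least 10 -/
theorem isMaximalIn_unitary {F : Type*} [Field F] [Fintype F] {n : ℕ} (hn : 10 ≤ n) (heven : Even n) (Q : (Fin n → F) → F) (hQ : Cfsg.Geo.IsNondegenerateQuadraticForm Q) (K : Subalgebra F (Matrix (Fin n) (Fin n) F)) (hK : Cfsg.Geo.IsFieldSubalgebra 2 K) (hac : Cfsg.Geo.IsAdjointClosedFor (QuadraticMap.polar Q) K) (hnsa : ¬ Cfsg.Geo.IsSelfAdjointFor (QuadraticMap.polar Q) K) (hsc : ∀ k ∈ K, ∃ c : F, ∀ v : (Fin n → F), Q (Matrix.mulVec k v) = c * Q v) : Cfsg.Geo.IsMaximalIn (Cfsg.Geo.omegaGL Q) (Cfsg.Geo.subalgebraNormalizer K ⊓ Cfsg.Geo.omegaGL Q) := by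
  classical
  let q : QuadraticForm F (Fin n → F) := QuadraticMap.ofPolar Q
    (fun a x => by rw [hQ.smul, smul_eq_mul, pow_two])
    hQ.polar_bilinear.add_left
    (fun a x y => by rw [hQ.polar_bilinear.smul_left, smul_eq_mul])
  have hq : ⇑q = Q := rfl
  have hnd : (QuadraticMap.polarBilin q).Nondegenerate :=
    ⟨fun x hx => by_contra fun h => (hQ.nondegenerate x h).2.elim fun y hy => hy (hx y),
      fun x hx => by_contra fun h => (hQ.nondegenerate x h).1.elim fun y hy => hy (hx y)⟩
  rw [← hq] at hac hnsa hsc ⊢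
  haveI : Nonempty (Fin n) := ⟨⟨0, by omega⟩⟩
  -- a generator
  obtain ⟨k₀, hk₀K, hk₀⟩ : ∃ k ∈ K, ∀ c : F, k ≠ c • (1 : Matrix (Fin n) (Fin n) F) := by
    by_contra! h
    have hle : Subalgebra.toSubmodule K ≤ Submodule.span F {(1 : Matrix (Fin n) (Fin n) F)} := fun k hk => by
      obtain ⟨c, rfl⟩ := h k hk
      exact Submodule.smul_mem _ _ (Submodule.mem_span_singleton_self _)
    have h1 := Submodule.finrank_mono hle
    rw [Subalgebra.finrank_toSubmodule, hK.finrank_eq, finrank_span_singleton one_ne_zero] at h1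
    omega
  have hli : LinearIndependent F ![(1 : Matrix (Fin n) (Fin n) F), k₀] := by
    rw [LinearIndependent.pair_iff' one_ne_zero]
    exact fun c h => hk₀ c h.symm
  have hKJ : ∀ k, k ∈ K ↔ ∃ a b : F, k = a • (1 : Matrix (Fin n) (Fin n) F) + b • k₀ := by
    have hle : Submodule.span F (Set.range ![(1 : Matrix (Fin n) (Fin n) F), k₀]) ≤ Subalgebra.toSubmodule K :=
      Submodule.span_le.2 (by
        rintro x ⟨i, rfl⟩
        fin_cases i
        · exact K.one_mem
        · exact hk₀K)
    have heq := Submodule.eq_of_le_of_finrank_eq hle (by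
      rw [finrank_span_eq_card hli, Subalgebra.finrank_toSubmodule, hK.finrank_eq]; rfl)
    intro k
    refine ⟨fun hk => ?_, fun ⟨a, b, e⟩ => e ▸ K.add_mem (K.smul_mem K.one_mem a) (K.smul_mem hk₀K b)⟩
    have hk' : k ∈ Submodule.span F (Set.range ![(1 : Matrix (Fin n) (Fin n) F), k₀]) := heq ▸ hk
    obtain ⟨c, hc⟩ := (Submodule.mem_span_range_iff_exists_fun _).1 hk'
    exact ⟨c 0, c 1, by rw [← hc, Fin.sum_univ_two]; rfl⟩
  set J : (Fin n → F) →ₗ[F] (Fin n → F) := Matrix.toLin' k₀ with hJ
  have happ : ∀ (a b : F) v, (a • (1 : Matrix (Fin n) (Fin n) F) + b • k₀).mulVec v = a • v + b • J v := fun a b v => by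
    rw [Matrix.add_mulVec, Matrix.smul_mulVec, Matrix.smul_mulVec, Matrix.one_mulVec, hJ, Matrix.toLin'_apply]
  have hJapp : ∀ v, k₀.mulVec v = J v := fun v => rfl
  have hJns : ∀ c : F, ∃ v, J v ≠ c • v := fun c => by
    by_contra! h
    exact hk₀ c (Matrix.ext_of_mulVec_single fun i => by rw [hJapp, h, Matrix.smul_mulVec, Matrix.one_mulVec])
  obtain ⟨k', hk'K, hadj⟩ := hac k₀ hk₀K
  obtain ⟨a, b, rfl⟩ := (hKJ k').1 hk'K
  have hadj' : ∀ u v, QuadraticMap.polar q (J u) v = a * QuadraticMap.polar q u v + b * QuadraticMap.polar q u (J v) := by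
    intro u v
    have h1 := hadj u v
    rw [hJapp, happ, QuadraticMap.polar_add_right, QuadraticMap.polar_smul_right, QuadraticMap.polar_smul_right] at h1
    exact h1
  have hb2 : (1 - b * b) = 0 ∧ a * (1 + b) = 0 := by
    have key : ∀ v, (1 - b * b) • J v = (a * (1 + b)) • v := fun v => sub_eq_zero.1 (hnd.1 _ fun u => by
      show QuadraticMap.polar q ((1 - b * b) • J v - (a * (1 + b)) • v) u = 0
      rw [sub_eq_add_neg, QuadraticMap.polar_add_left, QuadraticMap.polar_neg_left, QuadraticMap.polar_smul_left,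
        QuadraticMap.polar_smul_left, smul_eq_mul, smul_eq_mul]
      have h1 := hadj' v u
      have h2 := hadj' u v
      rw [QuadraticMap.polar_comm q (J u) v] at h2
      rw [QuadraticMap.polar_comm q u (J v), QuadraticMap.polar_comm q u v] at h2
      linear_combination h1 + b * h2)
    have h0 : (1 - b * b) = 0 := by
      by_contra h
      obtain ⟨v, hv⟩ := hJns ((1 - b * b)⁻¹ * (a * (1 + b)))
      refine hv ?_
      rw [mul_smul, ← key v, inv_smul_smul₀ h]
    refine ⟨h0, ?_⟩
    obtain ⟨v, hv⟩ := exists_ne (0 : Fin n → F)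
    have := key v
    rw [h0, zero_smul] at this
    exact (smul_eq_zero.1 this.symm).resolve_right hv
  have hb : b = -1 := by
    rcases eq_or_ne b 1 with rfl | h
    · rcases mul_eq_zero.1 hb2.2 with rfl | h2
      · exfalso
        refine hnsa fun k hk u v => ?_
        obtain ⟨c, d, rfl⟩ := (hKJ k).1 hk
        rw [happ, happ, QuadraticMap.polar_add_left, QuadraticMap.polar_add_right, QuadraticMap.polar_smul_left,
          QuadraticMap.polar_smul_left, QuadraticMap.polar_smul_right, QuadraticMap.polar_smul_right, hadj']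
        simp
      · linear_combination h2
    · have : (b - 1) * (b + 1) = 0 := by linear_combination -hb2.1
      exact eq_neg_of_add_eq_zero_left ((mul_eq_zero.1 this).resolve_left (sub_ne_zero.2 h))
  obtain ⟨N, hN⟩ := hsc k₀ hk₀K
  obtain ⟨c₁, hc₁⟩ := hsc (1 + k₀) (K.add_mem K.one_mem hk₀K)
  have hN' : ∀ v, q (J v) = N * q v := fun v => hN v
  have hsim : ∀ u v, QuadraticMap.polar q (J u) (J v) = N * QuadraticMap.polar q u v := fun u v => by
    simp only [QuadraticMap.polar, ← map_add, hN']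
    ring
  have hsq : ∀ v, J (J v) = a • J v - N • v := fun v => sub_eq_zero.1 (hnd.1 _ fun u => by
    show QuadraticMap.polar q (J (J v) - (a • J v - N • v)) u = 0
    have h1 := hadj' (J v) u
    rw [hb, hsim] at h1
    simp only [sub_eq_add_neg, QuadraticMap.polar_add_left, QuadraticMap.polar_neg_left, QuadraticMap.polar_smul_left,
      smul_eq_mul]
    linear_combination h1)
  have hU : RootPlanes.UData q J a N := by
    refine ⟨hsq, fun x hx => ?_, fun u v => ?_, hsim, fun u hu => ⟨by rw [hN', hu, mul_zero], ?_⟩,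
      by rw [Module.finrank_fin_fun]; exact hn, hnd⟩
    · obtain ⟨y, hy, hy1⟩ := hK.inv (k₀ - x • 1) (K.sub_mem hk₀K (K.smul_mem K.one_mem x))
        (fun h => hk₀ x (sub_eq_zero.1 h))
      obtain ⟨v, hv⟩ := hJns (a - x)
      have e0 : (k₀ - x • 1).mulVec (J v - (a - x) • v) = 0 := by
        rw [Matrix.sub_mulVec, Matrix.smul_mulVec, Matrix.one_mulVec, hJapp, map_sub, map_smul, hsq]
        have h0 : (x * x - a * x + N) • v = 0 := by rw [hx, zero_smul]
        linear_combination (norm := module) -h0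
      have hy2 : y * (k₀ - x • 1) = 1 := mul_eq_one_comm.1 hy1
      have e1 := congrArg (fun z => y.mulVec z) e0
      simp only [Matrix.mulVec_mulVec, hy2, Matrix.one_mulVec, Matrix.mulVec_zero] at e1
      exact hv (sub_eq_zero.1 e1)
    · rw [hadj', hb, sub_eq_add_neg, QuadraticMap.polar_add_right, QuadraticMap.polar_neg_right,
        QuadraticMap.polar_smul_right, smul_eq_mul]
      ring
    · have h1 := hc₁ u
      rw [Matrix.add_mulVec, Matrix.one_mulVec, hJapp] at h1
      rw [QuadraticMap.polar, h1, hu, hN', hu, mul_zero, mul_zero, sub_zero, sub_zero]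
  have hmem : ∀ g : Quad.oG q, (glEquiv (Fin n) F).symm g.1 ∈ Cfsg.Geo.subalgebraNormalizer K ↔
      ∃ α β : F, ∀ v, g.1 (J v) = α • g.1 v + β • J (g.1 v) := by
    intro g
    set G : GL (Fin n) F := (glEquiv (Fin n) F).symm g.1 with hG
    have hGg : ∀ v, (G : Matrix (Fin n) (Fin n) F).mulVec v = g.1 v := fun v => by
      rw [← glEquiv_apply, hG, MulEquiv.apply_symm_apply]
    have hconj : ∀ (k : Matrix (Fin n) (Fin n) F) (α β : F),
        (G : Matrix (Fin n) (Fin n) F) * k * ((G⁻¹ : GL (Fin n) F) : Matrix (Fin n) (Fin n) F) = α • 1 + β • k₀ ↔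
          ∀ v, g.1 (k.mulVec v) = α • g.1 v + β • J (g.1 v) := by
      intro k α β
      rw [Units.mul_inv_eq_iff_eq_mul]
      constructor
      · intro h v
        have := congrArg (fun z => Matrix.mulVec z v) h
        simp only [← Matrix.mulVec_mulVec, happ, hGg] at this
        exact this
      · intro h
        refine Matrix.ext_of_mulVec_single fun i => ?_
        rw [← Matrix.mulVec_mulVec, ← Matrix.mulVec_mulVec, happ, hGg, hGg, h]
    constructor
    · intro hm
      obtain ⟨α, β, e⟩ := (hKJ _).1 ((hm k₀).1 hk₀K)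
      exact ⟨α, β, (hconj k₀ α β).1 e⟩
    · rintro ⟨α, β, h⟩ k
      have hβ : β ≠ 0 := fun h0 => by
        obtain ⟨v, hv⟩ := hJns α
        exact hv (g.1.injective (by rw [h, h0, map_smul, zero_smul, add_zero]))
      constructor
      · intro hk
        obtain ⟨c, d, rfl⟩ := (hKJ k).1 hk
        refine (hKJ _).2 ⟨c + d * α, d * β, (hconj _ _ _).2 fun v => ?_⟩
        rw [happ, map_add, map_smul, map_smul, h]
        module
      · intro hk
        obtain ⟨c, d, e⟩ := (hKJ _).1 hk
        refine (hKJ k).2 ⟨c - d * α / β, d / β, Matrix.ext_of_mulVec_single fun i => g.1.injective ?_⟩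
        rw [(hconj k c d).1 e, happ, map_add, map_smul, map_smul, h, smul_add, smul_smul, smul_smul,
          div_mul_cancel₀ _ hβ]
        match_scalars <;> field_simp <;> ring
  have hex : Nat.card F ≠ 2 ∨ Module.finrank F (Fin n → F) ≠ 4 := Or.inr (by rw [Module.finrank_fin_fun]; omega)
  refine RootPlanes.isMaximalIn_omega q hnd (by rw [Fintype.card_fin]; omega) _ ?_ fun H hH g hg hgS => ?_
  · obtain ⟨g, hg, hgo⟩ := hU.exists_out
    exact ⟨g, hg, fun hm => hgo ((hmem g).1 hm)⟩
  · refine hU.overgroup (fun u hu => ⟨hu, (hU.sing u hu).1, (hU.sing u hu).2, fun l hu' h => hH _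
      (Quad.sO_mem_commutator hnd hex _ _) ((hmem _).2 ⟨0, 1, fun v => ?_⟩)⟩) hg (fun hm => hgS ((hmem g).2 hm))
    simp only [Quad.sO_apply, map_add, map_smul, QuadraticMap.map_smul, (hU.sing u hu).1, smul_zero, zero_mul,
      QuadraticMap.polar_smul_right, smul_eq_mul, neg_zero, zero_smul, add_zero, hU.sim, hU.adj v u, sub_eq_add_neg,
      QuadraticMap.polar_add_right, QuadraticMap.polar_neg_right, hsq]
    match_scalars <;> ring

end Cfsg.Agent.ClassicalMax.OrthEven
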